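import Groth.Agent.HilbDLib.AddPoint
import Groth.Agent.SrcDescent.SmoothFppf

/-!
# The Hilbert scheme of points of a smooth relative curve is smooth
-/

set_option autoImplicit false
set_option backward.isDefEq.respectTransparency false
set_option linter.style.haveILetI false

universe u
open CategoryTheory CategoryTheory.Limits AlgebraicGeometry

namespace Groth.Agent.HilbDLib

variable {X S : Scheme.{u}} (f : X ⟶ S)

theorem finrank_eq_zero_of_isEmpty {E Y : Scheme.{u}} (φ : E ⟶ Y) [IsEmpty E] [IsFinite φ] [Flat φ] (y : Y) :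
    φ.finrank y = 0 := by
  obtain ⟨z, hz⟩ : ∃ z, Y.fromSpecResidueField y z = y := ⟨IsLocalRing.closedPoint _, Y.fromSpecResidueField_apply y _⟩
  rw [show φ.finrank y = φ.finrank (Y.fromSpecResidueField y z) from congrArg _ hz.symm,
    ← Scheme.Hom.finrank_pullback_snd φ (Y.fromSpecResidueField y) z]
  haveI : IsEmpty ↥(pullback φ (Y.fromSpecResidueField y)) :=
    Function.isEmpty (pullback.fst φ (Y.fromSpecResidueField y))
  let e : pullback φ (Y.fromSpecResidueField y) ≅ Spec (CommRingCat.of PUnit.{u + 1}) :=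
    isInitialOfIsEmpty.uniqueUpToIso isInitialOfIsEmpty
  letI : Algebra (Y.residueField y) PUnit.{u + 1} := RingHom.toAlgebra
    { toFun := fun _ => 0, map_one' := rfl, map_mul' := fun _ _ => rfl, map_zero' := rfl, map_add' := fun _ _ => rfl }
  rw [show pullback.snd φ (Y.fromSpecResidueField y) = e.hom ≫
      Spec.map (CommRingCat.ofHom (algebraMap (Y.residueField y) PUnit.{u + 1})) from
      isInitialOfIsEmpty.hom_ext _ _]
  rw [Scheme.Hom.finrank_comp_left_of_isIso, Scheme.Hom.finrank_SpecMap_algebraMap]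
  simp [Module.rankAtStalk_eq_finrank_of_free, Module.finrank_zero_of_subsingleton]

theorem deg_zero_top (T : Over S) :
    Mor2.IsFinLocFreeOfDeg 0 ((⊤ : (PicF.XT f T).IdealSheafData).subschemeι ≫ PicF.XTproj f T) := by
  haveI : IsEmpty ↥(⊤ : (PicF.XT f T).IdealSheafData).subscheme := by
    rw [← Scheme.Hom.ker_eq_top_iff_isEmpty (⊤ : (PicF.XT f T).IdealSheafData).subschemeι,
      Scheme.IdealSheafData.ker_subschemeι]
  refine ⟨⟨inferInstance, inferInstance, inferInstance⟩, fun y => ?_⟩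
  exact finrank_eq_zero_of_isEmpty _ y

theorem isIso_of_isUniversal_zero (H : Over S) (Z : HilbD.Obj f 0 H) (hZ : HilbD.IsUniversal f 0 H Z) :
    IsIso H.hom := by
  have htop : ∀ {T : Over S} (g : T ⟶ H), HilbD.pull f g Z.1 = ⊤ := fun g =>
    RelCurveDiv.eq_top_of_deg_zero _ _ (isFinLocFreeOfDeg_pull f g Z.1 Z.2)
  obtain ⟨s, -, -⟩ := hZ (Over.mk (𝟙 S)) ⟨⊤, deg_zero_top f _⟩
  refine ⟨s.left, ?_, Over.w s⟩
  let r : H ⟶ Over.mk (𝟙 S) := Over.homMk H.hom (Category.comp_id _)
  have e : r ≫ s = 𝟙 H :=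
    (hZ H ⟨⊤, deg_zero_top f H⟩).unique (htop _) (htop _)
  exact congrArg CommaMorphism.left e

variable [IsSeparated f] [SmoothOfRelativeDimension 1 f]

theorem smooth_XTproj (T : Over S) : SmoothOfRelativeDimension 1 (PicF.XTproj f T) :=
  haveI := smoothOfRelativeDimension_isStableUnderBaseChange 1
  MorphismProperty.pullback_snd (P := @SmoothOfRelativeDimension 1) _ _ inferInstance

theorem exists_addPoint (d : ℕ) (H : Over S) (Z : HilbD.Obj f d H)
    (H' : Over S) (Z' : HilbD.Obj f (d + 1) H') (hZ' : HilbD.IsUniversal f (d + 1) H' Z') :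
    ∃ m : HX f H ⟶ H', HilbD.pull f m Z'.1 =
      HilbD.pull f (Over.homMk (pullback.fst H.hom f) rfl : HX f H ⟶ H) Z.1 *
        HilbD.secGraph f (HX f H) (pullback.snd H.hom f) pullback.condition.symm := by
  haveI := smooth_XTproj f (HX f H)
  exact (hZ' _ ⟨_, RelCurveDiv.sum_finLocFreeOfDeg (PicF.XTproj f (HX f H)) _ _ d 1
    (isFinLocFreeOfDeg_pull f _ Z.1 Z.2)
    (deg_secGraph f (HX f H) (pullback.snd H.hom f) pullback.condition.symm)⟩).exists

theorem addPoint_surjective (d : ℕ) {P Q : Scheme.{u}} (m : P ⟶ Q) (h : Mor2.IsFinLocFreeOfDeg (d + 1) m) :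
    Surjective m := by
  obtain ⟨⟨h1, h2, h3⟩, h4⟩ := h
  exact (Scheme.Hom.one_le_finrank_iff_surjective m).1 fun y => by rw [h4 y]; exact Nat.succ_pos d

theorem smooth_of_isUniversal (hrep : ∀ e : ℕ, HilbD.Representable f e) (d : ℕ) :
    ∀ (H : Over S) (Z : HilbD.Obj f d H), HilbD.IsUniversal f d H Z → Smooth H.hom := by
  induction d with
  | zero =>
    intro H Z hZ
    haveI := isIso_of_isUniversal_zero f H Z hZ
    infer_instance
  | succ d ih =>
    intro H' Z' hZ'
    obtain ⟨H, Z, hZ⟩ := hrep d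
    haveI : Smooth H.hom := ih H Z hZ
    obtain ⟨m, hm⟩ := exists_addPoint f d H Z H' Z' hZ'
    have hdeg := addPoint_deg f d H Z hZ H' Z' hZ' m hm
    haveI := addPoint_surjective d m.left hdeg
    obtain ⟨⟨h1, h2, h3⟩, -⟩ := hdeg
    haveI : Smooth f := SmoothOfRelativeDimension.smooth 1 f
    haveI : Smooth (m.left ≫ H'.hom) := by
      rw [Over.w m]
      exact inferInstanceAs (Smooth (pullback.fst H.hom f ≫ H.hom))
    exact SrcDescent.smooth_of_fppf_comp m.left H'.hom

end Groth.Agent.HilbDLib
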