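import Groth.Agent.HilbDLib.Diagonal
import Groth.Agent.HilbDLib.Separated
import Groth.Agent.HilbDLib.ClosedSub
import Groth.Agent.FComplLib.IdealComap
import Groth.Agent.RelCurveDiv.Flags

/-!
# Adding a point to a divisor: the map `H_d ×_S X ⟶ H_{d+1}` is the universal divisor
-/

set_option autoImplicit false
set_option backward.isDefEq.respectTransparency false
set_option linter.style.haveILetI false

universe u
open CategoryTheory CategoryTheory.Limits AlgebraicGeometry

namespace Groth.Agent.HilbDLib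

variable {X S : Scheme.{u}} (f : X ⟶ S) [IsSeparated f]

theorem pull_mul {T T' : Over S} (g : T' ⟶ T) (I J : (PicF.XT f T).IdealSheafData) :
    HilbD.pull f g (I * J) = HilbD.pull f g I * HilbD.pull f g J := by
  simp only [pull_eq_comap, FComplLib.comap_mul]

theorem pull_secGraph {T T' : Over S} (g : T' ⟶ T) (x : T.left ⟶ X) (hx : x ≫ f = T.hom)
    (y : T'.left ⟶ X) (hy : y ≫ f = T'.hom) (h : g.left ≫ x = y) :
    HilbD.pull f g (HilbD.secGraph f T x hx) = HilbD.secGraph f T' y hy := by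
  subst h
  let x' : T ⟶ Over.mk f := Over.homMk x hx
  rw [secGraph_eq, secGraph_eq, show (sec f T x hx).ker =
      HilbD.pull f x' (HilbD.secGraph f (Over.mk f) (𝟙 X) (Category.id_comp f)) from (pull_diagonal f x').symm,
    pull_pull, pull_diagonal]
  rfl

theorem deg_secGraph (T : Over S) (x : T.left ⟶ X) (hx : x ≫ f = T.hom) :
    Mor2.IsFinLocFreeOfDeg 1 ((HilbD.secGraph f T x hx).subschemeι ≫ PicF.XTproj f T) := by
  rw [secGraph_eq, finLocFreeOfDeg_ker, sec_proj]
  exact ⟨⟨inferInstance, inferInstance, inferInstance⟩, fun y =>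
    congrFun (Scheme.Hom.finrank_eq_one_of_isIso (𝟙 T.left)) y⟩

theorem finLocFreeOfDeg_iso_comp {n : ℕ} {P Q R : Scheme.{u}} (e : P ⟶ Q) [IsIso e] (q : Q ⟶ R)
    (h : Mor2.IsFinLocFreeOfDeg n q) : Mor2.IsFinLocFreeOfDeg n (e ≫ q) := by
  obtain ⟨⟨h1, h2, h3⟩, h4⟩ := h
  exact ⟨⟨inferInstance, inferInstance, inferInstance⟩, fun s => by
    rw [Scheme.Hom.finrank_comp_left_of_isIso]; exact h4 s⟩

variable [SmoothOfRelativeDimension 1 f] (d : ℕ) (H : Over S) (Z : HilbD.Obj f d H)

/-- `H ×_S X` over `S`. -/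
noncomputable abbrev HX : Over S := Over.mk (pullback.fst H.hom f ≫ H.hom)

theorem addPoint_deg (hZ : HilbD.IsUniversal f d H Z)
    (H' : Over S) (Z' : HilbD.Obj f (d + 1) H') (hZ' : HilbD.IsUniversal f (d + 1) H' Z')
    (m : HX f H ⟶ H')
    (hm : HilbD.pull f m Z'.1 =
      HilbD.pull f (Over.homMk (pullback.fst H.hom f) rfl : HX f H ⟶ H) Z.1 *
        HilbD.secGraph f (HX f H) (pullback.snd H.hom f) pullback.condition.symm) :
    Mor2.IsFinLocFreeOfDeg (d + 1) m.left := by
  have hsm : ∀ T : Over S, SmoothOfRelativeDimension 1 (PicF.XTproj f T) := fun T =>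
    haveI := smoothOfRelativeDimension_isStableUnderBaseChange 1
    MorphismProperty.pullback_snd (P := @SmoothOfRelativeDimension 1) _ _ inferInstance
  have hx : pullback.snd H.hom f ≫ f = (HX f H).hom := pullback.condition.symm
  let p : HX f H ⟶ H := Over.homMk (pullback.fst H.hom f) rfl
  -- the universal divisor and its map to `H'`
  let q : Z'.1.subscheme ⟶ H'.left := Z'.1.subschemeι ≫ PicF.XTproj f H'
  let W : Over S := Over.mk (q ≫ H'.hom)
  let g : W ⟶ H' := Over.homMk q rfl
  let y : W.left ⟶ X := Z'.1.subschemeι ≫ pullback.fst f H'.hom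
  have hy : y ≫ f = W.hom := by
    show (Z'.1.subschemeι ≫ pullback.fst f H'.hom) ≫ f = (Z'.1.subschemeι ≫ pullback.snd f H'.hom) ≫ H'.hom
    rw [Category.assoc, Category.assoc, pullback.condition]
  have hι : sec f W y hy ≫ PicF.XTmap f g = Z'.1.subschemeι := by
    apply pullback.hom_ext
    · simp only [Category.assoc, PicF.XTmap, pullback.lift_fst, Category.comp_id, sec_fst]
      rfl
    · simp only [Category.assoc, PicF.XTmap, pullback.lift_snd]
      rw [← Category.assoc, show sec f W y hy ≫ pullback.snd f W.hom = 𝟙 _ from sec_proj f W _ _,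
        Category.id_comp]
      rfl
  have hle : HilbD.pull f g Z'.1 ≤ HilbD.secGraph f W y hy := by
    rw [pull_eq_comap, secGraph_eq, ← Scheme.IdealSheafData.le_map_iff_comap_le,
      Scheme.IdealSheafData.map_ker, hι, Scheme.IdealSheafData.ker_subschemeι]
  haveI := hsm W
  obtain ⟨I, hI, hIeq⟩ := RelCurveDiv.difference_finLocFreeOfDeg (PicF.XTproj f W) _ _ hle 1 (d + 1)
    (deg_secGraph f W y hy) (isFinLocFreeOfDeg_pull f g Z'.1 Z'.2)
  rw [Nat.add_sub_cancel] at hI
  obtain ⟨h, hh, -⟩ := hZ W ⟨I, hI⟩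
  -- the forward map
  let φ : (HX f H).left ⟶ PicF.XT f H' :=
    sec f (HX f H) (pullback.snd H.hom f) hx ≫ PicF.XTmap f m
  have hφ : Z'.1.subschemeι.ker ≤ φ.ker := by
    rw [Scheme.IdealSheafData.ker_subschemeι]
    show Z'.1 ≤ (sec f (HX f H) (pullback.snd H.hom f) hx ≫ PicF.XTmap f m).ker
    rw [Scheme.Hom.ker_comp, Scheme.IdealSheafData.le_map_iff_comap_le, ← pull_eq_comap, hm,
      ← secGraph_eq]
    exact fun U => by rw [Scheme.IdealSheafData.ideal_mul]; simp only [Pi.mul_apply]; exact Ideal.mul_le.2 fun _ _ _ h => Ideal.mul_mem_left _ _ h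
  let φ' : (HX f H).left ⟶ Z'.1.subscheme := IsClosedImmersion.lift Z'.1.subschemeι φ hφ
  have hφ' : φ' ≫ Z'.1.subschemeι = φ := IsClosedImmersion.lift_fac _ _ _
  have hφq : φ' ≫ q = m.left := by
    show φ' ≫ Z'.1.subschemeι ≫ PicF.XTproj f H' = m.left
    rw [← Category.assoc, hφ']
    show (sec f (HX f H) (pullback.snd H.hom f) hx ≫ PicF.XTmap f m) ≫ pullback.snd f H'.hom = m.left
    simp only [Category.assoc, PicF.XTmap, pullback.lift_snd]
    rw [← Category.assoc, show sec f (HX f H) (pullback.snd H.hom f) hx ≫ pullback.snd f (HX f H).hom = 𝟙 _ from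
      sec_proj f (HX f H) _ _, Category.id_comp]
  have hφy : φ' ≫ y = pullback.snd H.hom f := by
    show φ' ≫ Z'.1.subschemeι ≫ pullback.fst f H'.hom = _
    rw [← Category.assoc, hφ']
    show (sec f (HX f H) (pullback.snd H.hom f) hx ≫ PicF.XTmap f m) ≫ pullback.fst f H'.hom = _
    simp only [Category.assoc, PicF.XTmap, pullback.lift_fst, Category.comp_id, sec_fst]
  let ψ : Z'.1.subscheme ⟶ (HX f H).left := pullback.lift h.left y ((Over.w h).trans hy.symm)
  have hψ₁ : ψ ≫ pullback.fst H.hom f = h.left := pullback.lift_fst _ _ _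
  have hψ₂ : ψ ≫ pullback.snd H.hom f = y := pullback.lift_snd _ _ _
  let ψo : W ⟶ HX f H := Over.homMk ψ (by
    show ψ ≫ pullback.fst H.hom f ≫ H.hom = W.hom
    rw [← Category.assoc, hψ₁]; exact Over.w h)
  have hψm : ψo ≫ m = g := by
    refine (hZ' W ⟨_, isFinLocFreeOfDeg_pull f g Z'.1 Z'.2⟩).unique ?_ rfl
    show HilbD.pull f (ψo ≫ m) Z'.1 = HilbD.pull f g Z'.1
    rw [← pull_pull, hm, pull_mul, pull_pull, pull_secGraph f ψo _ _ y hy hψ₂, hIeq, mul_comm]
    refine congrArg (HilbD.secGraph f W y hy * ·) (Eq.trans ?_ hh)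
    refine congrArg (fun t => HilbD.pull f t Z.1) ?_
    ext
    exact hψ₁
  let φo : HX f H ⟶ W := Over.homMk φ' (by
    show φ' ≫ q ≫ H'.hom = _
    rw [← Category.assoc, hφq]; exact Over.w m)
  have hφg : φo ≫ g = m := by ext; exact hφq
  have hφh : φo ≫ h = p := by
    refine (hZ _ ⟨_, isFinLocFreeOfDeg_pull f p Z.1 Z.2⟩).unique ?_ rfl
    show HilbD.pull f (φo ≫ h) Z.1 = HilbD.pull f p Z.1
    haveI := hsm (HX f H)
    refine RelCurveDiv.div_cancel (PicF.XTproj f (HX f H))
      (deg_secGraph f (HX f H) (pullback.snd H.hom f) hx) ?_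
    calc HilbD.secGraph f (HX f H) (pullback.snd H.hom f) hx * HilbD.pull f (φo ≫ h) Z.1
        = HilbD.pull f φo (HilbD.secGraph f W y hy * I) := by
          rw [pull_mul, ← pull_pull, hh, pull_secGraph f φo y hy _ hx hφy]
      _ = HilbD.pull f m Z'.1 := by rw [← hIeq, pull_pull, hφg]
      _ = HilbD.secGraph f (HX f H) (pullback.snd H.hom f) hx * HilbD.pull f p Z.1 := by
          rw [hm, mul_comm]
  let e : (HX f H).left ≅ Z'.1.subscheme :=
    { hom := φ'
      inv := ψ
      hom_inv_id := by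
        apply pullback.hom_ext
        · rw [Category.assoc, hψ₁, Category.id_comp]; exact congrArg CommaMorphism.left hφh
        · rw [Category.assoc, hψ₂, Category.id_comp, hφy]
      inv_hom_id := by
        rw [← cancel_mono Z'.1.subschemeι, Category.assoc, Category.id_comp, hφ']
        apply pullback.hom_ext
        · show (ψ ≫ sec f (HX f H) _ hx ≫ PicF.XTmap f m) ≫ pullback.fst f H'.hom = y
          simp only [Category.assoc, PicF.XTmap, pullback.lift_fst, Category.comp_id, sec_fst]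
          exact hψ₂
        · show (ψ ≫ sec f (HX f H) _ hx ≫ PicF.XTmap f m) ≫ pullback.snd f H'.hom = q
          simp only [Category.assoc, PicF.XTmap, pullback.lift_snd]
          rw [← Category.assoc (sec f (HX f H) _ hx), show sec f (HX f H) (pullback.snd H.hom f) hx ≫
            pullback.snd f (HX f H).hom = 𝟙 _ from sec_proj f (HX f H) _ _, Category.id_comp]
          exact congrArg CommaMorphism.left hψm }
  have hmq : m.left = e.hom ≫ q := hφq.symm
  obtain ⟨⟨h1, h2, h3⟩, h4⟩ := Z'.2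
  haveI : IsFinite q := h1
  haveI : Flat q := h2
  haveI : LocallyOfFinitePresentation q := h3
  haveI : IsIso e.hom := ⟨e.inv, e.hom_inv_id, e.inv_hom_id⟩
  rw [hmq]
  exact finLocFreeOfDeg_iso_comp e.hom q ⟨⟨h1, h2, h3⟩, h4⟩

end Groth.Agent.HilbDLib
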