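import Groth.Agent.HilbDLib.Separated
import Groth.Agent.HilbDLib.Diagonal
import Groth.Agent.DivSplit.Main

/-!
# The Hilbert functor of points commutes with base change
-/

set_option autoImplicit false
set_option backward.isDefEq.respectTransparency false
set_option linter.style.haveILetI false

universe u
open CategoryTheory CategoryTheory.Limits AlgebraicGeometry

namespace Groth.Agent.HilbDLib

section bc

variable {X S B : Scheme.{u}} (f : X ⟶ S) (b : B ⟶ S)

/-- A `B`-scheme as an `S`-scheme. -/
noncomputable abbrev resObj (T : Over B) : Over S := Over.mk (T.hom ≫ b)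

/-- A `B`-morphism as an `S`-morphism. -/
noncomputable abbrev resHom {T T' : Over B} (g : T' ⟶ T) : resObj b T' ⟶ resObj b T :=
  Over.homMk g.left (show g.left ≫ T.hom ≫ b = T'.hom ≫ b by rw [← Category.assoc, Over.w g])

/-- `(X ×_S B) ×_B T ≅ X ×_S T`. -/
noncomputable def bcIso (T : Over B) : PicF.XT (pullback.snd f b) T ≅ PicF.XT f (resObj b T) :=
  pullbackLeftPullbackSndIso f b T.hom

@[reassoc]
theorem bcIso_fst (T : Over B) :
    (bcIso f b T).hom ≫ pullback.fst f (resObj b T).hom = pullback.fst _ T.hom ≫ pullback.fst f b :=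
  pullbackLeftPullbackSndIso_hom_fst f b T.hom

@[reassoc]
theorem bcIso_proj (T : Over B) :
    (bcIso f b T).hom ≫ PicF.XTproj f (resObj b T) = PicF.XTproj (pullback.snd f b) T :=
  pullbackLeftPullbackSndIso_hom_snd f b T.hom

theorem bcIso_XTmap {T T' : Over B} (g : T' ⟶ T) :
    PicF.XTmap (pullback.snd f b) g ≫ (bcIso f b T).hom = (bcIso f b T').hom ≫ PicF.XTmap f (resHom b g) := by
  apply pullback.hom_ext
  · simp only [Category.assoc, bcIso_fst, PicF.XTmap, pullback.map, pullback.lift_fst, pullback.lift_fst_assoc,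
      Category.comp_id]
  · simp only [Category.assoc, PicF.XTmap, pullback.map, pullback.lift_snd]
    rw [show (bcIso f b T).hom ≫ pullback.snd f (resObj b T).hom = PicF.XTproj (pullback.snd f b) T from bcIso_proj f b T,
      pullback.lift_snd, ← Category.assoc,
      show (bcIso f b T').hom ≫ pullback.snd f (resObj b T').hom = PicF.XTproj (pullback.snd f b) T' from bcIso_proj f b T']
    rfl

/-- The base change of a closed subscheme. -/
noncomputable def bcIdeal {T : Over B} (I : (PicF.XT f (resObj b T)).IdealSheafData) :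
    (PicF.XT (pullback.snd f b) T).IdealSheafData := I.comap (bcIso f b T).hom

theorem pull_bcIdeal {T T' : Over B} (g : T' ⟶ T) (I : (PicF.XT f (resObj b T)).IdealSheafData) :
    HilbD.pull (pullback.snd f b) g (bcIdeal f b I) = bcIdeal f b (HilbD.pull f (resHom b g) I) := by
  simp only [pull_eq_comap, bcIdeal, ← Scheme.IdealSheafData.comap_comp, bcIso_XTmap]

theorem bcIdeal_comap_inv {T : Over B} (I : (PicF.XT f (resObj b T)).IdealSheafData) :
    (bcIdeal f b I).comap (bcIso f b T).inv = I := by
  rw [bcIdeal, ← Scheme.IdealSheafData.comap_comp, Iso.inv_hom_id, Scheme.IdealSheafData.comap_id]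

theorem bcIdeal_injective (T : Over B) : Function.Injective (bcIdeal f b (T := T)) := fun I J h => by
  rw [← bcIdeal_comap_inv f b I, h, bcIdeal_comap_inv]

theorem bcIdeal_surjective {T : Over B} (J : (PicF.XT (pullback.snd f b) T).IdealSheafData) :
    bcIdeal f b (J.comap (bcIso f b T).inv) = J := by
  rw [bcIdeal, ← Scheme.IdealSheafData.comap_comp, Iso.hom_inv_id, Scheme.IdealSheafData.comap_id]

theorem deg_bcIdeal {d : ℕ} {T : Over B} (I : (PicF.XT f (resObj b T)).IdealSheafData)
    (h : Mor2.IsFinLocFreeOfDeg d (I.subschemeι ≫ PicF.XTproj f (resObj b T))) :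
    Mor2.IsFinLocFreeOfDeg d ((bcIdeal f b I).subschemeι ≫ PicF.XTproj (pullback.snd f b) T) :=
  DivSplit.deg_comap (b := 𝟙 T.left)
    (IsPullback.of_horiz_isIso ⟨by rw [bcIso_proj]; exact (Category.comp_id _).symm⟩) I h

theorem deg_comap_bcIso_inv {d : ℕ} {T : Over B} (J : (PicF.XT (pullback.snd f b) T).IdealSheafData)
    (h : Mor2.IsFinLocFreeOfDeg d (J.subschemeι ≫ PicF.XTproj (pullback.snd f b) T)) :
    Mor2.IsFinLocFreeOfDeg d ((J.comap (bcIso f b T).inv).subschemeι ≫ PicF.XTproj f (resObj b T)) :=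
  DivSplit.deg_comap (b := 𝟙 T.left)
    (IsPullback.of_horiz_isIso ⟨by rw [← bcIso_proj, Iso.inv_hom_id_assoc]; exact (Category.comp_id _).symm⟩) J h

/-- The base change of a representing object, over `B`. -/
noncomputable abbrev bcBase (H : Over S) : Over B := Over.mk (pullback.snd H.hom b)

/-- The projection of the base change. -/
noncomputable abbrev bcProj (H : Over S) : resObj b (bcBase b H) ⟶ H :=
  Over.homMk (pullback.fst H.hom b) pullback.condition

theorem isUniversal_baseChange {d : ℕ} (H : Over S) (Z : HilbD.Obj f d H) (hZ : HilbD.IsUniversal f d H Z) :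
    ∃ hd, HilbD.IsUniversal (pullback.snd f b) d (bcBase b H)
      ⟨bcIdeal f b (HilbD.pull f (bcProj b H) Z.1), hd⟩ := by
  refine ⟨deg_bcIdeal f b _ (isFinLocFreeOfDeg_pull f _ Z.1 Z.2), fun T Z' => ?_⟩
  obtain ⟨h, hh, huniq⟩ := hZ (resObj b T) ⟨_, deg_comap_bcIso_inv f b Z'.1 Z'.2⟩
  let g : T ⟶ bcBase b H := Over.homMk (pullback.lift h.left T.hom (Over.w h)) (pullback.lift_snd _ _ _)
  refine ⟨g, ?_, fun g' hg' => ?_⟩
  · show HilbD.pull _ g (bcIdeal f b (HilbD.pull f (bcProj b H) Z.1)) = Z'.1
    rw [pull_bcIdeal, pull_pull, show resHom b g ≫ bcProj b H = h from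
      Over.OverMorphism.ext (pullback.lift_fst _ _ _), hh, bcIdeal_surjective]
  · have h1 : resHom b g' ≫ bcProj b H = h := huniq _ (by
      show HilbD.pull f (resHom b g' ≫ bcProj b H) Z.1 = Z'.1.comap (bcIso f b T).inv
      rw [← pull_pull, ← bcIdeal_comap_inv f b (HilbD.pull f (resHom b g') _), ← pull_bcIdeal]
      exact congrArg (fun J => Scheme.IdealSheafData.comap J (bcIso f b T).inv) hg')
    refine Over.OverMorphism.ext (pullback.hom_ext ?_ ?_)
    · exact (congrArg CommaMorphism.left h1).trans (pullback.lift_fst _ _ _).symm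
    · exact (Over.w g').trans (pullback.lift_snd _ _ _).symm

end bc

end Groth.Agent.HilbDLib
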