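import Groth.Agent.HilbDLib.BaseChange
import Groth.Agent.HilbDLib.ClosedSub
import Groth.Agent.FComplLib.IdealComap
import Groth.Agent.HilbDLib.SmoothCurve

/-!
# Relative Hilbert scheme of points inside the Hilbert scheme of points
-/

set_option autoImplicit false
set_option backward.isDefEq.respectTransparency false
set_option linter.style.haveILetI false

universe u
open CategoryTheory CategoryTheory.Limits AlgebraicGeometry

namespace Groth.Agent.HilbDLib

variable {X S B C : Scheme.{u}} (g : X ⟶ S) (b : B ⟶ S)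

/-- The classifying map to `H ×_S B` of a relative family is a closed immersion. -/
theorem isClosedImmersion_toBaseChange {π : C ⟶ B} (j : C ⟶ X) [IsClosedImmersion j] (h : j ≫ g = π ≫ b)
    [IsSeparated b] {ℓ : ℕ} (H : Over S) (Z : HilbD.Obj g ℓ H) (hZ : HilbD.IsUniversal g ℓ H Z)
    (H' : Over B) (Z' : HilbD.Obj π ℓ H') (hZ' : HilbD.IsUniversal π ℓ H' Z')
    (m : resObj b H' ⟶ H)
    (hm : HilbD.pull g m Z.1 =
      (Z'.1.subschemeι ≫ pullback.map π H'.hom g (H'.hom ≫ b) j (𝟙 H'.left) b h.symm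
        (Category.id_comp _).symm).ker) :
    IsClosedImmersion (pullback.lift m.left H'.hom (Over.w m) : H'.left ⟶ pullback H.hom b) := by
  obtain ⟨i, hi₁, hi₂⟩ : ∃ i : C ⟶ pullback g b, i ≫ pullback.fst g b = j ∧ i ≫ pullback.snd g b = π :=
    ⟨pullback.lift j π h, pullback.lift_fst _ _ _, pullback.lift_snd _ _ _⟩
  subst hi₂
  haveI : IsSeparated (pullback.fst g b) := MorphismProperty.pullback_fst (P := @IsSeparated) _ _ ‹IsSeparated b›
  haveI : IsClosedImmersion i := by
    haveI : IsClosedImmersion (i ≫ pullback.fst g b) := by rw [hi₁]; infer_instance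
    exact IsClosedImmersion.of_comp i (pullback.fst g b)
  obtain ⟨hd, hB⟩ := isUniversal_baseChange g b H Z hZ
  let mB : H' ⟶ bcBase b H := Over.homMk (pullback.lift m.left H'.hom (Over.w m)) (pullback.lift_snd _ _ _)
  refine (representable_comp_closedImmersion i (pullback.snd g b) ℓ _ _ hB).2 H' Z' hZ' mB ?_
  show HilbD.pull _ mB (bcIdeal g b (HilbD.pull g (bcProj b H) Z.1)) = _
  have he : resHom b mB ≫ bcProj b H = m := Over.OverMorphism.ext (pullback.lift_fst _ _ _)
  have hmap : pullback.map (i ≫ pullback.snd g b) H'.hom g (H'.hom ≫ b) j (𝟙 H'.left) b h.symm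
      (Category.id_comp _).symm = jT i (pullback.snd g b) H' ≫ (bcIso g b H').hom := by
    apply pullback.hom_ext
    · rw [pullback.lift_fst, Category.assoc, show (bcIso g b H').hom ≫ pullback.fst g (H'.hom ≫ b) = _ from
        bcIso_fst g b H', pullback.lift_fst_assoc, Category.assoc, hi₁]
    · rw [pullback.lift_snd, Category.assoc, show (bcIso g b H').hom ≫ pullback.snd g (H'.hom ≫ b) = _ from
        bcIso_proj g b H', show jT i (pullback.snd g b) H' ≫ PicF.XTproj (pullback.snd g b) H' = _ from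
        jT_proj i (pullback.snd g b) H', Category.comp_id]
  rw [pull_bcIdeal, pull_pull, he, hm, push_eq, hmap]
  show ((Z'.1.subschemeι ≫ jT i (pullback.snd g b) H' ≫ (bcIso g b H').hom).ker).comap (bcIso g b H').hom = _
  rw [← Category.assoc]
  exact FComplLib.ker_comp_comap _ _

/-- The classifying map of a relative family to the Hilbert scheme of points is a monomorphism. -/
theorem mono_toPoints {π : C ⟶ B} (j : C ⟶ X) [IsClosedImmersion j] (h : j ≫ g = π ≫ b) [IsSeparated b]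
    {ℓ : ℕ} (hℓ : 0 < ℓ) (H : Over S) (Z : HilbD.Obj g ℓ H) (hZ : HilbD.IsUniversal g ℓ H Z)
    (H' : Over B) (Z' : HilbD.Obj π ℓ H') (hZ' : HilbD.IsUniversal π ℓ H' Z')
    (m : resObj b H' ⟶ H)
    (hm : HilbD.pull g m Z.1 =
      (Z'.1.subschemeι ≫ pullback.map π H'.hom g (H'.hom ≫ b) j (𝟙 H'.left) b h.symm
        (Category.id_comp _).symm).ker) :
    Mono m.left := by
  haveI := isClosedImmersion_toBaseChange g b j h H Z hZ H' Z' hZ' m hm
  obtain ⟨i, hi₁, hi₂⟩ : ∃ i : C ⟶ pullback g b, i ≫ pullback.fst g b = j ∧ i ≫ pullback.snd g b = π :=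
    ⟨pullback.lift j π h, pullback.lift_fst _ _ _, pullback.lift_snd _ _ _⟩
  let M := pullback.map π H'.hom g (H'.hom ≫ b) j (𝟙 H'.left) b h.symm (Category.id_comp _).symm
  have hM₁ : M ≫ pullback.fst g (H'.hom ≫ b) = pullback.fst π H'.hom ≫ j := pullback.lift_fst _ _ _
  have hM₂ : M ≫ pullback.snd g (H'.hom ≫ b) = pullback.snd π H'.hom := by
    rw [pullback.lift_snd, Category.comp_id]
  haveI : IsClosedImmersion M := by
    subst hi₂
    haveI : IsSeparated (pullback.fst g b) := MorphismProperty.pullback_fst (P := @IsSeparated) _ _ ‹IsSeparated b›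
    haveI : IsClosedImmersion i := by
      haveI : IsClosedImmersion (i ≫ pullback.fst g b) := by rw [hi₁]; infer_instance
      exact IsClosedImmersion.of_comp i (pullback.fst g b)
    rw [show M = jT i (pullback.snd g b) H' ≫ (bcIso g b H').hom from ?_]
    · infer_instance
    apply pullback.hom_ext
    · rw [hM₁, Category.assoc, show (bcIso g b H').hom ≫ pullback.fst g (H'.hom ≫ b) = _ from
        bcIso_fst g b H', pullback.lift_fst_assoc, Category.assoc, hi₁]
    · rw [hM₂, Category.assoc, show (bcIso g b H').hom ≫ pullback.snd g (H'.hom ≫ b) = _ from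
        bcIso_proj g b H']
      exact (jT_proj i (pullback.snd g b) H').symm
  refine ⟨fun {T} a₁ a₂ e => ?_⟩
  rw [← cancel_mono (pullback.lift m.left H'.hom (Over.w m) : H'.left ⟶ pullback H.hom b)]
  refine pullback.hom_ext (by simpa using e) ?_
  simp only [Category.assoc, pullback.lift_snd]
  let To : Over S := Over.mk (a₁ ≫ H'.hom ≫ b)
  let o₁ : To ⟶ resObj b H' := Over.homMk a₁ rfl
  let o₂ : To ⟶ resObj b H' := Over.homMk a₂ (by
    show a₂ ≫ H'.hom ≫ b = a₁ ≫ H'.hom ≫ b
    rw [show H'.hom ≫ b = m.left ≫ H.hom from (Over.w m).symm]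
    exact ((reassoc_of% e) H.hom).symm)
  have ho : o₂ ≫ m = o₁ ≫ m := Over.OverMorphism.ext e.symm
  let W := HilbD.pull g (o₁ ≫ m) Z.1
  let ρ : W.subscheme ⟶ T := W.subschemeι ≫ PicF.XTproj g To
  obtain ⟨⟨r1, r2, r3⟩, r4⟩ : Mor2.IsFinLocFreeOfDeg ℓ ρ := isFinLocFreeOfDeg_pull g (o₁ ≫ m) Z.1 Z.2
  haveI : IsFinite ρ := r1
  haveI : Flat ρ := r2
  haveI : LocallyOfFinitePresentation ρ := r3
  haveI : Surjective ρ := (Scheme.Hom.one_le_finrank_iff_surjective ρ).1 fun y => by rw [r4 y]; exact hℓ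
  haveI : Epi ρ := Flat.epi_of_flat_of_surjective ρ
  haveI : IsClosedImmersion (Z'.1.subschemeι ≫ M) := inferInstance
  have key : ∀ (o : To ⟶ resObj b H'), o ≫ m = o₁ ≫ m →
      ∃ c : W.subscheme ⟶ C, c ≫ j = W.subschemeι ≫ pullback.fst g To.hom ∧ c ≫ π = ρ ≫ o.left ≫ H'.hom := by
    intro o ho'
    have hle : (Z'.1.subschemeι ≫ M).ker ≤ (W.subschemeι ≫ PicF.XTmap g o).ker := by
      rw [← hm, Scheme.Hom.ker_comp W.subschemeι, Scheme.IdealSheafData.le_map_iff_comap_le, ← pull_eq_comap,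
        pull_pull, ho', Scheme.IdealSheafData.ker_subschemeι]
    let l := IsClosedImmersion.lift (Z'.1.subschemeι ≫ M) (W.subschemeι ≫ PicF.XTmap g o) hle
    have hl : l ≫ Z'.1.subschemeι ≫ M = W.subschemeι ≫ PicF.XTmap g o := IsClosedImmersion.lift_fac _ _ _
    refine ⟨l ≫ Z'.1.subschemeι ≫ pullback.fst π H'.hom, ?_, ?_⟩
    · have := congrArg (· ≫ pullback.fst g (H'.hom ≫ b)) hl
      have hX : PicF.XTmap g o ≫ pullback.fst g (H'.hom ≫ b) = pullback.fst g To.hom :=
        (pullback.lift_fst _ _ _).trans (Category.comp_id _)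
      simp only [Category.assoc, hM₁, hX] at this
      simpa only [Category.assoc] using this
    · have := congrArg (· ≫ pullback.snd g (H'.hom ≫ b)) hl
      have hX : PicF.XTmap g o ≫ pullback.snd g (H'.hom ≫ b) = PicF.XTproj g To ≫ o.left :=
        pullback.lift_snd _ _ _
      simp only [Category.assoc, hM₂, hX] at this
      simp only [Category.assoc, pullback.condition]
      rw [reassoc_of% this]
      simp only [ρ, Category.assoc]
  obtain ⟨c₁, hc₁, hc₁'⟩ := key o₁ rfl
  obtain ⟨c₂, hc₂, hc₂'⟩ := key o₂ ho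
  have hc : c₁ = c₂ := by rw [← cancel_mono j, hc₁, hc₂]
  rw [← cancel_epi ρ]
  show ρ ≫ o₁.left ≫ H'.hom = ρ ≫ o₂.left ≫ H'.hom
  rw [← hc₁', ← hc₂', hc]

/-- The relative Hilbert scheme of points of a flat proper family of closed subschemes is a closed subscheme
of the Hilbert scheme of points. -/
theorem isClosedImmersion_toPoints {π : C ⟶ B} (j : C ⟶ X) [IsClosedImmersion j] (h : j ≫ g = π ≫ b)
    [IsProper g] [IsSeparated b] [LocallyOfFiniteType b] [Flat π] [IsProper π] [LocallyOfFinitePresentation π]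
    {ℓ : ℕ} (hℓ : 0 < ℓ) (H : Over S) (Z : HilbD.Obj g ℓ H) (hZ : HilbD.IsUniversal g ℓ H Z)
    (H' : Over B) (Z' : HilbD.Obj π ℓ H') (hZ' : HilbD.IsUniversal π ℓ H' Z')
    (m : resObj b H' ⟶ H)
    (hm : HilbD.pull g m Z.1 =
      (Z'.1.subschemeι ≫ pullback.map π H'.hom g (H'.hom ≫ b) j (𝟙 H'.left) b h.symm
        (Category.id_comp _).symm).ker) :
    IsClosedImmersion m.left := by
  haveI := isClosedImmersion_toBaseChange g b j h H Z hZ H' Z' hZ' m hm
  haveI := mono_toPoints g b j h hℓ H Z hZ H' Z' hZ' m hm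
  let B₀ : B.Opens := ⟨Set.range π, π.isOpenMap.isOpen_range⟩
  let π₀ : C ⟶ (B₀ : Scheme.{u}) := IsOpenImmersion.lift B₀.ι π (by rw [Scheme.Opens.range_ι]; rfl)
  have hπ₀ : π₀ ≫ B₀.ι = π := IsOpenImmersion.lift_fac _ _ _
  haveI : Surjective π₀ := ⟨fun y => by
    obtain ⟨c, hc⟩ := y.2
    exact ⟨c, B₀.ι.isOpenEmbedding.injective (by rw [← Scheme.Hom.comp_apply, hπ₀]; exact hc)⟩⟩
  haveI : IsProper (π₀ ≫ B₀.ι ≫ b) := by
    rw [reassoc_of% hπ₀, ← h]; infer_instance
  haveI : UniversallyClosed (B₀.ι ≫ b) := UniversallyClosed.of_comp_surjective π₀ _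
  haveI : IsProper (B₀.ι ≫ b) := { }
  let q : Z'.1.subscheme ⟶ H'.left := Z'.1.subschemeι ≫ PicF.XTproj π H'
  obtain ⟨⟨r1, r2, r3⟩, r4⟩ := Z'.2
  haveI : IsFinite q := r1
  haveI : Flat q := r2
  haveI : LocallyOfFinitePresentation q := r3
  haveI : Surjective q := (Scheme.Hom.one_le_finrank_iff_surjective q).1 fun y => by rw [r4 y]; exact hℓ
  have hrange : Set.range H'.hom ⊆ Set.range B₀.ι := by
    rintro _ ⟨x, rfl⟩
    rw [Scheme.Opens.range_ι]
    obtain ⟨z, rfl⟩ := q.surjective x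
    refine ⟨(Z'.1.subschemeι ≫ pullback.fst π H'.hom) z, ?_⟩
    rw [← Scheme.Hom.comp_apply, ← Scheme.Hom.comp_apply, Category.assoc, pullback.condition]
    rfl
  let h₀ : H'.left ⟶ (B₀ : Scheme.{u}) := IsOpenImmersion.lift B₀.ι H'.hom hrange
  have hh₀ : h₀ ≫ B₀.ι = H'.hom := IsOpenImmersion.lift_fac _ _ _
  let φ : H'.left ⟶ pullback H.hom (B₀.ι ≫ b) := pullback.lift m.left h₀ (by
    rw [reassoc_of% hh₀]; exact Over.w m)
  let ψ : pullback H.hom (B₀.ι ≫ b) ⟶ pullback H.hom b :=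
    pullback.map _ _ _ _ (𝟙 _) B₀.ι (𝟙 _) (by simp) (by simp)
  haveI : IsClosedImmersion φ := by
    haveI : IsClosedImmersion (φ ≫ ψ) := by
      rw [show φ ≫ ψ = pullback.lift m.left H'.hom (Over.w m) from by
        apply pullback.hom_ext <;> simp [φ, ψ, hh₀]]
      infer_instance
    exact IsClosedImmersion.of_comp φ ψ
  haveI : IsProper (pullback.fst H.hom (B₀.ι ≫ b)) := MorphismProperty.pullback_fst (P := @IsProper) _ _ inferInstance
  haveI : IsProper m.left := by
    rw [show m.left = φ ≫ pullback.fst H.hom (B₀.ι ≫ b) from (pullback.lift_fst _ _ _).symm]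
    infer_instance
  exact (IsClosedImmersion.iff_isProper_and_mono m.left).2 ⟨inferInstance, inferInstance⟩

end Groth.Agent.HilbDLib
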